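import Mathlib
import Groth.Agent.Lib.Helper3.Brown

/-!
# Brown representability with universe-small coproducts (helper5)

A variant of helper3's `Brown.representable_of_generators` in which the triangulated category `D`
only has coproducts indexed by types of a universe `w` possibly smaller than the universe of
morphisms, under the assumption that `D` is locally `w`-small (this is the situation of derived
categories of Grothendieck abelian categories with the standard `HasDerivedCategory` instance).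
The sections `Stage` and `Representable` follow helper3's file, with the index types shrunk.
-/

set_option autoImplicit false
set_option linter.unusedSectionVars false
set_option linter.unusedVariables false
universe w v u v' u'

open CategoryTheory CategoryTheory.Limits CategoryTheory.Pretriangulated Opposite
open CategoryTheory.Pretriangulated.Opposite
open Groth.Agent.Helper3.Brown

namespace Groth.Agent.Lib.Helper5.BrownU

variable {D : Type u} [Category.{v} D] [Preadditive D] [HasZeroObject D] [HasShift D ℤ]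
  [∀ n : ℤ, (shiftFunctor D n).Additive] [Pretriangulated D]

section Stage

variable (H : Dᵒᵖ ⥤ AddCommGrpCat.{v}) [H.IsHomological] [HasCoproducts.{w} D]
  [LocallySmall.{w} D]
  [∀ κ : Type w, PreservesLimitsOfShape (Discrete κ) H]
  {κ : Type w} (G : κ → D)

/-- one step of the tower: kill the kernel of `Hom(G i, Y) → H(G i)` -/
lemma exists_next (Y : D) (y : H.obj (op Y)) :
    ∃ (Y' : D) (y' : H.obj (op Y')) (φ : Y ⟶ Y'), ev H φ y' = y ∧
      (∀ (i : κ) (u : G i ⟶ Y), ev H u y = 0 → u ≫ φ = 0) := by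
  let Idx : Type w := Σ i : κ, Shrink.{w} {f : G i ⟶ Y // ev H f y = 0}
  let val : ∀ p : Idx, {f : G p.1 ⟶ Y // ev H f y = 0} := fun p => (equivShrink _).symm p.2
  let k : (∐ (fun p : Idx => G p.1)) ⟶ Y := Sigma.desc (fun p => (val p).1)
  obtain ⟨Y', φ, h, hT⟩ := distinguished_cocone_triangle k
  have hk : ev H k y = 0 := by
    apply elt_ext H (fun p : Idx => G p.1)
    intro p
    rw [← ev_comp, ev_zero, Sigma.ι_desc]
    exact (val p).2
  obtain ⟨y', hy'⟩ : ∃ y' : H.obj (op Y'), ev H φ y' = y := exists_of_exact H _ hT y hk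
  refine ⟨Y', y', φ, hy', fun i u hu => ?_⟩
  let p : Idx := ⟨i, equivShrink _ ⟨u, hu⟩⟩
  have hp : (val p).1 = u := by
    simp [val, p]
  have h1 : u = Sigma.ι (fun p : Idx => G p.1) p ≫ k := by
    rw [Sigma.ι_desc]
    exact hp.symm
  have h2 : k ≫ φ = 0 := comp_distTriang_mor_zero₁₂ _ hT
  rw [h1, Category.assoc, h2, comp_zero]

/-- a stage of the tower -/
structure Stage where
  /-- the object -/
  Y : D
  /-- the class -/
  y : H.obj (op Y)

variable {H}

/-- the next stage -/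
noncomputable def Stage.next (s : Stage H) : Stage H :=
  ⟨(exists_next H G s.Y s.y).choose, (exists_next H G s.Y s.y).choose_spec.choose⟩

/-- the transition map -/
noncomputable def Stage.φ (s : Stage H) : s.Y ⟶ (s.next G).Y :=
  (exists_next H G s.Y s.y).choose_spec.choose_spec.choose

lemma Stage.ev_φ (s : Stage H) : ev H (s.φ G) (s.next G).y = s.y :=
  (exists_next H G s.Y s.y).choose_spec.choose_spec.choose_spec.1

lemma Stage.comp_φ (s : Stage H) (i : κ) (u : G i ⟶ s.Y) (hu : ev H u s.y = 0) :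
    u ≫ s.φ G = 0 :=
  (exists_next H G s.Y s.y).choose_spec.choose_spec.choose_spec.2 i u hu

/-- the tower of stages -/
noncomputable def tower (s₀ : Stage H) : ℕ → Stage H
  | 0 => s₀
  | n+1 => (tower s₀ n).next G

variable (H)

theorem main_M [HasColimitsOfShape (Discrete ℕ) D]
    (G2 : ∀ (X : ℕ → D) (i : κ) (α : G i ⟶ ∐ X), ∃ (j : ℕ → κ) (β : ∀ n, G (j n) ⟶ X n)
      (γ : G i ⟶ ∐ (fun n => G (j n))), α = γ ≫ Limits.Sigma.map β)
    (G3 : ∀ i : κ, ∃ i' : κ, Nonempty ((G i')⟦(1 : ℤ)⟧ ≅ G i))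
    (X₁ : D) (a₁ : H.obj (op X₁))
    (P1 : ∀ (i : κ) (b : H.obj (op (G i))), ∃ c : G i ⟶ X₁, ev H c a₁ = b) :
    ∃ (Xh : D) (ah : H.obj (op Xh)) (ι : X₁ ⟶ Xh), ev H ι ah = a₁ ∧
      ∀ i, Function.Bijective (fun f : G i ⟶ Xh => ev H f ah) := by
  have : PreservesLimitsOfShape (Discrete ℕ) H :=
    preservesLimitsOfShape_of_equiv (Discrete.equivalence (Equiv.ulift.{w, 0} (α := ℕ))) H
  let st : ℕ → Stage H := tower G ⟨X₁, a₁⟩
  let X : ℕ → D := fun n => (st n).Y
  let φ : ∀ n, X n ⟶ X (n+1) := fun n => (st n).φ G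
  let a : ∀ n, H.obj (op (X n)) := fun n => (st n).y
  have ha : ∀ n, ev H (φ n) (a (n+1)) = a n := fun n => (st n).ev_φ G
  have P2 : ∀ (n : ℕ) (i : κ) (u : G i ⟶ X n), ev H u (a n) = 0 → u ≫ φ n = 0 :=
    fun n i u hu => (st n).comp_φ G i u hu
  have P1' : ∀ (i : κ) (b : H.obj (op (G i))), ∃ c : G i ⟶ X 0, ev H c (a 0) = b := P1
  obtain ⟨Xh, π, δ, hT⟩ := distinguished_cocone_triangle (𝟙 _ - sh X φ)
  obtain ⟨ah, hah⟩ := exists_ah H X φ a ha Xh π δ hT
  refine ⟨Xh, ah, Sigma.ι X 0 ≫ π, hah 0, fun i => ⟨?_, ?_⟩⟩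
  · intro f f' hff'
    have h0 : ev H (f - f') ah = 0 := by
      rw [ev_sub_map, sub_eq_zero]
      exact hff'
    have := tau_inj H G G2 G3 X φ a ha P1' P2 Xh π δ hT ah hah i _ h0
    exact sub_eq_zero.mp this
  · intro b
    exact tau_surj H G X a P1' Xh π ah hah i b

end Stage

section Representable

variable [HasCoproducts.{w} D] [LocallySmall.{w} D] {κ : Type w} (G : κ → D)
  (G1 : ∀ X : D, ¬ IsZero X → ∃ (i : κ) (f : G i ⟶ X), f ≠ 0)
  (G3 : ∀ i : κ, ∃ i' : κ, Nonempty ((G i')⟦(1 : ℤ)⟧ ≅ G i))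

include G1 G3 in
/-- a map inducing bijections on maps from the generators is an isomorphism -/
lemma isIso_of_bijective {X X' : D} (φ : X ⟶ X')
    (hφ : ∀ i, Function.Bijective (fun t : G i ⟶ X => t ≫ φ)) : IsIso φ := by
  obtain ⟨C, p, q, hT⟩ := distinguished_cocone_triangle φ
  have h12 : φ ≫ p = 0 := comp_distTriang_mor_zero₁₂ _ hT
  have h31 : q ≫ (shiftFunctor D (1 : ℤ)).map φ = 0 := comp_distTriang_mor_zero₃₁ _ hT
  have hC : IsZero C := by
    by_contra hC
    obtain ⟨i, t, ht⟩ := G1 C hC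
    apply ht
    obtain ⟨i', ⟨e⟩⟩ := G3 i
    have h1 : t ≫ q = 0 := by
      obtain ⟨m, hm⟩ := (shiftFunctor D (1 : ℤ)).map_surjective (e.hom ≫ t ≫ q)
      have h2 : m ≫ φ = 0 := by
        apply (shiftFunctor D (1 : ℤ)).map_injective
        rw [Functor.map_comp, hm, Functor.map_zero, Category.assoc, Category.assoc, h31,
          comp_zero, comp_zero]
      have hm0 : m = 0 := (hφ i').1 (by simpa using h2)
      rw [hm0, Functor.map_zero] at hm
      have h3 : e.inv ≫ e.hom ≫ t ≫ q = 0 := by rw [← hm, comp_zero]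
      simpa using h3
    obtain ⟨t', ht'⟩ : ∃ t' : G i ⟶ X', t = t' ≫ p := Triangle.coyoneda_exact₃ _ hT t h1
    obtain ⟨t'', ht''⟩ := (hφ i).2 t'
    dsimp at ht''
    rw [ht', ← ht'', Category.assoc, h12, comp_zero]
  exact (Triangle.isZero₃_iff_isIso₁ _ hT).1 hC

variable (H : Dᵒᵖ ⥤ AddCommGrpCat.{v}) [H.IsHomological]
  [∀ κ : Type w, PreservesLimitsOfShape (Discrete κ) H]
  [HasColimitsOfShape (Discrete ℕ) D]
  (G2 : ∀ (X : ℕ → D) (i : κ) (α : G i ⟶ ∐ X), ∃ (j : ℕ → κ) (β : ∀ n, G (j n) ⟶ X n)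
      (γ : G i ⟶ ∐ (fun n => G (j n))), α = γ ≫ Limits.Sigma.map β)

include G1 G2 G3 in
lemma surj_of_bijective (Xh : D) (ah : H.obj (op Xh))
    (hbij : ∀ i, Function.Bijective (fun f : G i ⟶ Xh => ev H f ah))
    (W : D) (b : H.obj (op W)) : ∃ g : W ⟶ Xh, ev H g ah = b := by
  let a₁ : H.obj (op (Xh ⊞ W)) := ev H biprod.fst ah + ev H biprod.snd b
  have hinl : ev H biprod.inl a₁ = ah := by
    simp only [a₁, ev_add, ← ev_comp, biprod.inl_fst, biprod.inl_snd, ev_id, ev_zero_map,
      add_zero]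
  have hinr : ev H biprod.inr a₁ = b := by
    simp only [a₁, ev_add, ← ev_comp, biprod.inr_fst, biprod.inr_snd, ev_id, ev_zero_map,
      zero_add]
  have P1 : ∀ (i : κ) (b' : H.obj (op (G i))), ∃ c : G i ⟶ Xh ⊞ W, ev H c a₁ = b' := by
    intro i b'
    obtain ⟨c, hc⟩ := (hbij i).2 b'
    exact ⟨c ≫ biprod.inl, by rw [ev_comp, hinl]; exact hc⟩
  obtain ⟨Xh', ah', ι', hι', hbij'⟩ := main_M H G G2 G3 (Xh ⊞ W) a₁ P1
  have hφ : ev H (biprod.inl ≫ ι') ah' = ah := by rw [ev_comp, hι', hinl]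
  have hiso : IsIso (biprod.inl ≫ ι') := by
    apply isIso_of_bijective G G1 G3
    intro i
    have h1 : (fun f : G i ⟶ Xh' => ev H f ah') ∘ (fun t : G i ⟶ Xh => t ≫ biprod.inl ≫ ι') =
        (fun t : G i ⟶ Xh => ev H t ah) := by
      funext t
      simp only [Function.comp_apply]
      rw [ev_comp, hφ]
    have h2 := hbij i
    rw [← h1] at h2
    exact (Function.Bijective.of_comp_iff' (hbij' i) _).1 h2
  refine ⟨biprod.inr ≫ ι' ≫ inv (biprod.inl ≫ ι'), ?_⟩
  have h3 : ev H (inv (biprod.inl ≫ ι')) ah = ah' := by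
    conv_lhs => rw [← hφ]
    rw [← ev_comp, IsIso.inv_hom_id, ev_id]
  rw [ev_comp, ev_comp, h3, hι', hinr]

include G1 G2 G3 in
lemma inj_of_bijective (Xh : D) (ah : H.obj (op Xh))
    (hbij : ∀ i, Function.Bijective (fun f : G i ⟶ Xh => ev H f ah))
    (W : D) (f : W ⟶ Xh) (hf : ev H f ah = 0) : f = 0 := by
  obtain ⟨C, g, h, hT⟩ := distinguished_cocone_triangle f
  obtain ⟨c, hc⟩ : ∃ c : H.obj (op C), ev H g c = ah := exists_of_exact H _ hT ah hf
  obtain ⟨g', hg'⟩ := surj_of_bijective G G1 G3 H G2 Xh ah hbij C c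
  have hψ : ev H (g ≫ g') ah = ah := by rw [ev_comp, hg', hc]
  have hiso : IsIso (g ≫ g') := by
    apply isIso_of_bijective G G1 G3
    intro i
    have h1 : (fun t : G i ⟶ Xh => t ≫ g ≫ g') = id := by
      funext t
      apply (hbij i).1
      dsimp only
      rw [ev_comp, hψ]
      rfl
    rw [h1]
    exact Function.bijective_id
  have h12 : f ≫ g = 0 := comp_distTriang_mor_zero₁₂ _ hT
  have h2 : f ≫ (g ≫ g') = 0 := by rw [← Category.assoc, h12, zero_comp]
  rw [← cancel_mono (g ≫ g'), h2, zero_comp]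

include G1 G2 G3 in
theorem representable_of_generators [∀ i, Small.{w} (H.obj (op (G i)))] :
    (H ⋙ forget AddCommGrpCat.{v}).IsRepresentable := by
  -- the initial stage
  let Idx : Type w := Σ i : κ, Shrink.{w} (H.obj (op (G i)))
  let val : ∀ p : Idx, H.obj (op (G p.1)) := fun p => (equivShrink _).symm p.2
  obtain ⟨a₁, ha₁, -⟩ := existsUnique_elt H (fun p : Idx => G p.1) val
  have P1 : ∀ (i : κ) (b : H.obj (op (G i))), ∃ c : G i ⟶ ∐ (fun p : Idx => G p.1),
      ev H c a₁ = b := by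
    intro i b
    refine ⟨Sigma.ι (fun p : Idx => G p.1) ⟨i, equivShrink _ b⟩, ?_⟩
    rw [ha₁ ⟨i, equivShrink _ b⟩]
    simp [val]
  obtain ⟨Xh, ah, -, -, hbij⟩ := main_M H G G2 G3 _ a₁ P1
  have hb : ∀ W : D, Function.Bijective (fun f : W ⟶ Xh => ev H f ah) := by
    intro W
    refine ⟨fun f f' hff' => ?_, fun b => surj_of_bijective G G1 G3 H G2 Xh ah hbij W b⟩
    have h0 : ev H (f - f') ah = 0 := by
      rw [ev_sub_map, sub_eq_zero]
      exact hff'
    exact sub_eq_zero.mp (inj_of_bijective G G1 G3 H G2 Xh ah hbij W _ h0)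
  exact Functor.RepresentableBy.isRepresentable (Y := Xh)
    { homEquiv := fun {W} => Equiv.ofBijective _ (hb W)
      homEquiv_comp := fun {W W'} f g => ev_comp H f g ah }

end Representable

section Wrappers

variable [HasCoproducts.{w} D] [LocallySmall.{w} D]

/-- **Brown representability** for a triangulated category with `w`-small coproducts, locally
`w`-small, with a single generator `P` all of whose shifts are compact with respect to countable
coproducts -/
theorem representable_of_compact_generator (P : D)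
    (hgen : ∀ X : D, (∀ (n : ℤ) (f : P⟦n⟧ ⟶ X), f = 0) → IsZero X)
    [HasColimitsOfShape (Discrete ℕ) D]
    (hcpt : ∀ (n : ℤ) (X : ℕ → D) (α : P⟦n⟧ ⟶ ∐ X), ∃ (S : Finset ℕ) (x : ∀ k, P⟦n⟧ ⟶ X k),
      α = ∑ k ∈ S, x k ≫ Sigma.ι X k)
    (H : Dᵒᵖ ⥤ AddCommGrpCat.{v}) [H.IsHomological]
    [∀ κ : Type w, PreservesLimitsOfShape (Discrete κ) H]
    [∀ X : D, Small.{w} (H.obj (op X))] :
    (H ⋙ forget AddCommGrpCat.{v}).IsRepresentable := by
  let G : ULift.{w} ℤ → D := fun n => P⟦n.down⟧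
  apply representable_of_generators G ?_ ?_ H ?_
  · intro X hX
    by_contra hcon
    push Not at hcon
    exact hX (hgen X (fun n f => hcon ⟨n⟩ f))
  · intro i
    exact ⟨⟨i.down - 1⟩, ⟨(shiftFunctorAdd' D (i.down - 1) 1 i.down (by omega)).symm.app P⟩⟩
  · intro X i α
    obtain ⟨S, x, hx⟩ := hcpt i.down X α
    refine ⟨fun _ => i, x, ∑ k ∈ S, Sigma.ι (fun _ : ℕ => G i) k, ?_⟩
    rw [hx, Preadditive.sum_comp]
    apply Finset.sum_congr rfl
    intro k _
    rw [Sigma.ι_map]

/-- an exact functor commuting with `w`-small coproducts out of a category in which Brown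
representability holds is a left adjoint -/
theorem isLeftAdjoint_of_representable {D' : Type u'} [Category.{v} D'] [Preadditive D']
    [HasZeroObject D'] [HasShift D' ℤ] [∀ n : ℤ, (shiftFunctor D' n).Additive] [Pretriangulated D']
    [LocallySmall.{w} D']
    (F : D ⥤ D') [F.CommShift ℤ] [F.IsTriangulated]
    [∀ (κ : Type w), PreservesColimitsOfShape (Discrete κ) F]
    [∀ (Y : D') (κ : Type w), PreservesLimitsOfShape (Discrete κ) (preadditiveYoneda.obj Y)]
    (hrep : ∀ (H : Dᵒᵖ ⥤ AddCommGrpCat.{v}) [H.IsHomological]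
      [∀ (κ : Type w), PreservesLimitsOfShape (Discrete κ) H]
      [∀ X : D, Small.{w} (H.obj (op X))],
      (H ⋙ forget AddCommGrpCat.{v}).IsRepresentable) : F.IsLeftAdjoint := by
  apply Functor.isLeftAdjoint_of_rightAdjointObjIsDefined_eq_top
  ext Y
  simp only [Pi.top_apply, Prop.top_eq_true, iff_true]
  rw [Functor.rightAdjointObjIsDefined_iff]
  have hlim : ∀ (κ : Type w), PreservesLimitsOfShape (Discrete κ) F.op := by
    intro κ
    have : PreservesColimitsOfShape (Discrete κ)ᵒᵖ F :=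
      preservesColimitsOfShape_of_equiv (Discrete.opposite κ).symm F
    exact preservesLimitsOfShape_op (Discrete κ) F
  have hlim' : ∀ (κ : Type w), PreservesLimitsOfShape (Discrete κ)
      (F.op ⋙ preadditiveYoneda.obj Y) := fun κ => inferInstance
  have hsmall : ∀ X : D, Small.{w} ((F.op ⋙ preadditiveYoneda.obj Y).obj (op X)) := by
    intro X
    show Small.{w} (F.obj X ⟶ Y)
    infer_instance
  exact hrep (F.op ⋙ preadditiveYoneda.obj Y)

end Wrappers

end Groth.Agent.Lib.Helper5.BrownU
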