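import Mathlib
import Groth.Prelude.Def_DCoh3
import Groth.Prelude.Def_DDual2
import Groth.Agent.Lib.Helper5.QC.LpullQC

/-!
# Direct images commute with the coherator (helper5)
-/
set_option autoImplicit false
set_option linter.unusedSectionVars false
set_option linter.unusedVariables false
universe u
open CategoryTheory CategoryTheory.Limits AlgebraicGeometry
attribute [local instance] HasDerivedCategory.standard

namespace Groth.Agent.Lib.Helper5.BrownU

section General

variable {D₁ D₂ : Type*} [Category D₁] [Category D₂]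
  (P₁ : ObjectProperty D₁) (P₂ : ObjectProperty D₂)
  {Q₁ : D₁ ⥤ P₁.FullSubcategory} {Q₂ : D₂ ⥤ P₂.FullSubcategory}
  (adj₁ : P₁.ι ⊣ Q₁) (adj₂ : P₂.ι ⊣ Q₂)
  {L : D₂ ⥤ D₁} {R : D₁ ⥤ D₂} (adj : L ⊣ R)
  (hL : ∀ M, P₂ M → P₁ (L.obj M)) (hR : ∀ K, P₁ K → P₂ (R.obj K))

include adj hL in
/-- a right adjoint `R` preserving the subcategories, whose left adjoint also preserves them,
commutes with the right adjoints of the inclusions -/
theorem isIso_coherator_comparison (K : D₁) :
    IsIso (adj₂.homEquiv (⟨R.obj (Q₁.obj K).obj, hR _ (Q₁.obj K).property⟩ : P₂.FullSubcategory)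
      (R.obj K) (R.map (adj₁.counit.app K))) := by
  let ε := adj₁.counit.app K
  let A : P₂.FullSubcategory := ⟨R.obj (Q₁.obj K).obj, hR _ (Q₁.obj K).property⟩
  apply isIso_of_yoneda_map_bijective
  intro M
  let L' : P₁.FullSubcategory := ⟨L.obj M.obj, hL _ M.property⟩
  -- post-composition with `ε` is bijective on maps out of objects of the subcategory
  have hε : Function.Bijective (fun t : P₁.ι.obj L' ⟶ P₁.ι.obj (Q₁.obj K) => t ≫ ε) := by
    have h1 : (fun t : P₁.ι.obj L' ⟶ P₁.ι.obj (Q₁.obj K) => t ≫ ε) =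
        (adj₁.homEquiv L' K).symm ∘ P₁.fullyFaithfulι.homEquiv.symm := by
      funext t
      simp only [Function.comp_apply, Adjunction.homEquiv_counit]
      have h0 : P₁.ι.map (P₁.fullyFaithfulι.homEquiv.symm t) = t :=
        P₁.fullyFaithfulι.map_preimage t
      rw [h0]
    rw [h1]
    exact (adj₁.homEquiv L' K).symm.bijective.comp P₁.fullyFaithfulι.homEquiv.symm.bijective
  have hψ : Function.Bijective (fun m : M ⟶ A => P₂.ι.map m ≫ R.map ε) := by
    have h2 : (fun m : M ⟶ A => P₂.ι.map m ≫ R.map ε) =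
        (adj.homEquiv M.obj K) ∘ (fun t : P₁.ι.obj L' ⟶ P₁.ι.obj (Q₁.obj K) => t ≫ ε) ∘
          (adj.homEquiv M.obj (Q₁.obj K).obj).symm ∘ P₂.fullyFaithfulι.homEquiv := by
      funext m
      simp only [Function.comp_apply]
      rw [Adjunction.homEquiv_naturality_right]
      have h0 : (adj.homEquiv M.obj (P₁.ι.obj (Q₁.obj K)))
          ((adj.homEquiv M.obj (Q₁.obj K).obj).symm (P₂.fullyFaithfulι.homEquiv m)) =
          P₂.fullyFaithfulι.homEquiv m :=
        (adj.homEquiv M.obj (Q₁.obj K).obj).apply_symm_apply _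
      rw [h0]
      rfl
    rw [h2]
    exact (adj.homEquiv M.obj K).bijective.comp (hε.comp
      ((adj.homEquiv M.obj (Q₁.obj K).obj).symm.bijective.comp
        P₂.fullyFaithfulι.homEquiv.bijective))
  have h3 : (fun m : M ⟶ A => m ≫ adj₂.homEquiv A (R.obj K) (R.map ε)) =
      (adj₂.homEquiv M (R.obj K)) ∘ (fun m : M ⟶ A => P₂.ι.map m ≫ R.map ε) := by
    funext m
    simp only [Function.comp_apply]
    rw [Adjunction.homEquiv_naturality_left]
  rw [h3]
  exact (adj₂.homEquiv M (R.obj K)).bijective.comp hψ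

end General

end Groth.Agent.Lib.Helper5.BrownU
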