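import Mathlib
import Groth.Prelude.Def_DCoh3
import Groth.Agent.Lib.Helper5.BrownU.BrownU
import Groth.Agent.Lib.Helper5.BvdB.GenMV
import Groth.Agent.Lib.Helper5.BvdB.ShriekCpt
import Groth.Agent.Lib.Helper5.BvdB.RpushCoprod
import Groth.Agent.Lib.Helper3.KInjD

/-!
# Brown representability for `D_QCoh` of a quasi-compact quasi-separated scheme (helper5)
-/
set_option autoImplicit false
set_option linter.unusedSectionVars false
set_option linter.unusedVariables false
universe u u₁
open CategoryTheory CategoryTheory.Limits AlgebraicGeometry Pretriangulated TopologicalSpace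
open scoped ZeroObject
attribute [local instance] HasDerivedCategory.standard

namespace Groth.Agent.Lib.Helper5.BrownU

section Small

variable {A : Type u₁} [Category.{u} A] [Abelian A] [IsGrothendieckAbelian.{u} A]

open DerivedCategory in
/-- the derived category of a Grothendieck abelian category is locally small -/
theorem small_hom_derivedCategory (X Y : DerivedCategory A) : Small.{u} (X ⟶ Y) := by
  let K := Q.objPreimage X
  let L := Q.objPreimage Y
  obtain ⟨I, f, hI, hf, -, -⟩ := Groth.Agent.Helper3.KInjD.exists_kInjective_resolution L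
  haveI := hI
  haveI := hf
  haveI : IsIso (Q.map f) := (DerivedCategory.isIso_Q_map_iff_quasiIso (C := A) f).2 hf
  let e : (X ⟶ Y) ≃ (Q.obj K ⟶ Q.obj I) :=
    Iso.homCongr (Q.objObjPreimageIso X).symm ((Q.objObjPreimageIso Y).symm ≪≫ asIso (Q.map f))
  have hb := CochainComplex.IsKInjective.Qh_map_bijective
    ((HomotopyCategory.quotient A (ComplexShape.up ℤ)).obj K) I
  let φ : ((HomotopyCategory.quotient A (ComplexShape.up ℤ)).obj K ⟶
      (HomotopyCategory.quotient A (ComplexShape.up ℤ)).obj I) → (X ⟶ Y) :=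
    fun g => e.symm (Qh.map g)
  have hφ : Function.Surjective φ := by
    intro t
    obtain ⟨g, hg⟩ := hb.2 (e t)
    exact ⟨g, by simp [φ, hg]⟩
  exact small_of_surjective hφ

instance locallySmall_derivedCategory : LocallySmall.{u} (DerivedCategory A) where
  hom_small X Y := small_hom_derivedCategory X Y

end Small

section WeakCpt

open Groth.Agent.Lib.Helper5.BvdB

variable {D : Type*} [Category D] [Preadditive D]

/-- relative compactness for `u`-small families gives it for countable families -/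
theorem weakCptRel_nat {Pr : D → Prop} {P : D} (h : WeakCptRel.{u} Pr P)
    (E : ℕ → D) (Xc : D) (ι : ∀ k, E k ⟶ Xc) (hc : IsColimit (Cofan.mk Xc ι))
    (hE : ∀ k, Pr (E k)) (g : P ⟶ Xc) :
    ∃ (S : Finset ℕ) (x : ∀ k, P ⟶ E k), g = ∑ k ∈ S, x k ≫ ι k := by
  let E' : ULift.{u} ℕ → D := fun k => E k.down
  let ι' : ∀ k, E' k ⟶ Xc := fun k => ι k.down
  have hc' : IsColimit (Cofan.mk Xc ι') :=
    mkCofanColimit _ (fun s => Cofan.IsColimit.desc hc (fun k => s.inj ⟨k⟩))
      (fun s k => by
        have h1 := Cofan.IsColimit.fac hc (fun k => s.inj ⟨k⟩) k.down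
        exact h1)
      (fun s m hm => by
        apply Cofan.IsColimit.hom_ext hc
        intro k
        have h1 := Cofan.IsColimit.fac hc (fun k => s.inj ⟨k⟩) k
        exact (hm ⟨k⟩).trans h1.symm)
  obtain ⟨S', x', hx'⟩ := h (ULift.{u} ℕ) E' Xc ι' hc' (fun k => hE k.down) g
  refine ⟨S'.map Equiv.ulift.toEmbedding, fun k => x' ⟨k⟩, ?_⟩
  rw [hx', Finset.sum_map]
  rfl

end WeakCpt

section QCoh

open Groth.Agent.Lib.Helper5.BvdB Groth.Agent.Lib.Helper5.QC Groth.Agent.Lib.Helper5.PerfTri
  Groth.Agent.Lib.Helper5.CountHom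

variable (X : Scheme.{u})

instance isClosedUnderIsomorphisms_isQCohD :
    (DCoh.IsQCohD (X := X)).IsClosedUnderIsomorphisms where
  of_iso e h := isQCohD_of_iso e h

instance isTriangulated_isQCohD : (DCoh.IsQCohD (X := X)).IsTriangulated where
  exists_zero := ⟨0, isZero_zero _, isQCohD_of_isZero 0 (isZero_zero _)⟩
  isStableUnderShiftBy n := { le_shift := fun K hK => isQCohD_shift K hK n }
  ext₂' T hT h₁ h₃ := ObjectProperty.le_isoClosure _ _ (isQCohD_of_triangle_mid T hT h₁ h₃)

instance isClosedUnderColimitsOfShape_isQCohD (κ : Type u) :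
    (DCoh.IsQCohD (X := X)).IsClosedUnderColimitsOfShape (Discrete κ) where
  colimitsOfShape_le := by
    rintro Y ⟨h⟩
    let K : κ → DCoh.D X := fun j => h.diag.obj ⟨j⟩
    let α : h.diag ≅ Discrete.functor K := Discrete.natIsoFunctor
    have hc : IsColimit ((Cocone.precompose α.inv).obj (Cocone.mk Y h.ι)) :=
      (IsColimit.precomposeInvEquiv α _).symm h.isColimit
    exact isQCohD_of_iso ((colimit.isColimit _).coconePointUniqueUpToIso hc)
      (isQCohD_sigma K (fun j => h.prop_diag_obj ⟨j⟩))

/-- `D_QCoh(X)` as a full subcategory of `D(O_X)` -/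
abbrev DQ : Type (u + 1) := (DCoh.IsQCohD (X := X)).FullSubcategory

instance hasCoproducts_DQ : HasCoproducts.{u} (DQ X) := fun J => inferInstance

instance preservesCoproducts_ι (κ : Type u) :
    PreservesColimitsOfShape (Discrete κ) (DCoh.IsQCohD (X := X)).ι := inferInstance

instance preservesLimits_preadditiveYoneda (Y : DCoh.D X) (κ : Type u) :
    PreservesLimitsOfShape (Discrete κ) (preadditiveYoneda.obj Y) := by
  exact preservesLimitsOfShape_of_equiv
    (Discrete.equivalence (Equiv.ulift.{u + 1, u} (α := κ))) (preadditiveYoneda.obj Y)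

instance hasCoproductsNat_DQ : HasColimitsOfShape (Discrete ℕ) (DQ X) :=
  hasColimitsOfShape_of_equivalence (Discrete.equivalence (Equiv.ulift.{u, 0} (α := ℕ)))

instance preservesCoproductsNat_ι :
    PreservesColimitsOfShape (Discrete ℕ) (DCoh.IsQCohD (X := X)).ι :=
  preservesColimitsOfShape_of_equiv (Discrete.equivalence (Equiv.ulift.{u, 0} (α := ℕ)))
    (DCoh.IsQCohD (X := X)).ι

open Opposite in
/-- **Brown representability for `D_QCoh`** of a quasi-compact quasi-separated scheme -/
theorem representable_DQ [CompactSpace X] [QuasiSeparatedSpace X]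
    (H : (DQ X)ᵒᵖ ⥤ AddCommGrpCat.{u + 1}) [H.IsHomological]
    [∀ κ : Type u, PreservesLimitsOfShape (Discrete κ) H]
    [∀ Y : DQ X, Small.{u} (H.obj (op Y))] :
    (H ⋙ forget AddCommGrpCat.{u + 1}).IsRepresentable := by
  obtain ⟨P, hP, hgen⟩ := exists_perfGen X
  let ι := (DCoh.IsQCohD (X := X)).ι
  let P₀ : DQ X := ⟨P, isQCohD_of_isPerfect P hP⟩
  let e : ∀ n : ℤ, ι.obj (P₀⟦n⟧) ≅ P⟦n⟧ := fun n => (ι.commShiftIso n).app P₀
  apply representable_of_compact_generator.{u} P₀ ?_ ?_ H
  · intro Y hY
    have hz : IsZero Y.obj := by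
      apply hgen Y.obj Y.property
      intro n φ
      let f : P₀⟦n⟧ ⟶ Y := ι.preimage ((e n).hom ≫ φ)
      have h1 : ι.map f = 0 := by rw [hY n f, Functor.map_zero]
      have h2 : (e n).hom ≫ φ = 0 := by
        rw [← h1]
        exact (ι.map_preimage _).symm
      have h3 : (e n).inv ≫ (e n).hom ≫ φ = 0 := by rw [h2, comp_zero]
      simpa using h3
    rw [IsZero.iff_id_eq_zero]
    apply ι.map_injective
    rw [Functor.map_zero, CategoryTheory.Functor.map_id]
    exact (IsZero.iff_id_eq_zero _).1 hz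
  · intro n X' α
    have hE : DCoh.IsPerfect (ι.obj (P₀⟦n⟧)) := isPerfect_of_iso (e n).symm (isPerfect_shift hP n)
    have hw := weakCptRel_of_isPerfect (ι.obj (P₀⟦n⟧)) hE
    have hc : IsColimit (Cofan.mk (ι.obj (∐ X')) (fun k => ι.map (Sigma.ι X' k))) :=
      isColimitCofanMkObjOfIsColimit ι X' (Sigma.ι X') (coproductIsCoproduct X')
    obtain ⟨S, x, hx⟩ := weakCptRel_nat hw (fun k => ι.obj (X' k)) _ _ hc
      (fun k => (X' k).property) (ι.map α)
    refine ⟨S, fun k => ι.preimage (x k), ?_⟩
    apply ι.map_injective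
    rw [hx, Functor.map_sum]
    apply Finset.sum_congr rfl
    intro k _
    rw [Functor.map_comp, ι.map_preimage]

/-- **exact coproduct-preserving functors out of `D_QCoh` are left adjoints** -/
theorem isLeftAdjoint_of_preservesCoproducts_DQ [CompactSpace X] [QuasiSeparatedSpace X]
    {D' : Type (u + 1)} [Category.{u + 1} D'] [Preadditive D']
    [HasZeroObject D'] [HasShift D' ℤ] [∀ n : ℤ, (shiftFunctor D' n).Additive] [Pretriangulated D']
    [LocallySmall.{u} D']
    (F : DQ X ⥤ D') [F.CommShift ℤ] [F.IsTriangulated]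
    [∀ (κ : Type u), PreservesColimitsOfShape (Discrete κ) F]
    [∀ (Y : D') (κ : Type u), PreservesLimitsOfShape (Discrete κ) (preadditiveYoneda.obj Y)] :
    F.IsLeftAdjoint :=
  isLeftAdjoint_of_representable.{u} F (fun H _ _ _ => representable_DQ X H)

/-- **the inclusion `D_QCoh(X) ⥤ D(O_X)` has a right adjoint** -/
theorem isLeftAdjoint_ι_DQ [CompactSpace X] [QuasiSeparatedSpace X] :
    (DCoh.IsQCohD (X := X)).ι.IsLeftAdjoint :=
  isLeftAdjoint_of_preservesCoproducts_DQ X _

end QCoh

end Groth.Agent.Lib.Helper5.BrownU
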