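import Mathlib
import Groth.Prelude.Def_DCoh3
import Groth.Agent.Lib.Helper5.BrownU.DQCohBrown
import Groth.Agent.Lib.Helper5.MV.RpushTri

/-!
# `Rf_*` on `D_QCoh` has a right adjoint (helper5)
-/
set_option autoImplicit false
set_option linter.unusedSectionVars false
set_option linter.unusedVariables false
universe w v u u'
open CategoryTheory CategoryTheory.Limits AlgebraicGeometry Pretriangulated TopologicalSpace
open CategoryTheory.Pretriangulated.Opposite
open scoped ZeroObject
attribute [local instance] HasDerivedCategory.standard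

namespace Groth.Agent.Lib.Helper5.BrownU

section General

variable {D : Type u} [Category.{v} D] [Preadditive D] [HasZeroObject D] [HasShift D ℤ]
  [∀ n : ℤ, (shiftFunctor D n).Additive] [Pretriangulated D]
  {D' : Type u'} [Category.{v} D'] [Preadditive D']
  [HasZeroObject D'] [HasShift D' ℤ] [∀ n : ℤ, (shiftFunctor D' n).Additive] [Pretriangulated D']

/-- `Hom(F -, B)` is cohomological for an additive functor sending distinguished triangles to
triangles which can be completed to distinguished ones -/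
theorem isHomological_op_comp_yoneda (F : D ⥤ D') [F.Additive]
    (hF : ∀ T ∈ distTriang D, ∃ c : F.obj T.obj₃ ⟶ (F.obj T.obj₁)⟦(1 : ℤ)⟧,
      Triangle.mk (F.map T.mor₁) (F.map T.mor₂) c ∈ distTriang D') (B : D') :
    (F.op ⋙ preadditiveYoneda.obj B).IsHomological where
  exact T hT := by
    rw [ShortComplex.ab_exact_iff]
    intro (x₂ : F.obj T.obj₂.unop ⟶ B) (hx₂ : F.map T.mor₂.unop ≫ x₂ = 0)
    obtain ⟨c, hc⟩ := hF _ (unop_distinguished T hT)
    obtain ⟨x₃, hx₃⟩ := Triangle.yoneda_exact₂ _ hc x₂ hx₂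
    exact ⟨x₃, hx₃.symm⟩

open Opposite in
/-- a variant of `isLeftAdjoint_of_representable` for functors without a chosen triangulated
structure -/
theorem isLeftAdjoint_of_representable' [LocallySmall.{w} D']
    (F : D ⥤ D') [F.Additive]
    (hF : ∀ T ∈ distTriang D, ∃ c : F.obj T.obj₃ ⟶ (F.obj T.obj₁)⟦(1 : ℤ)⟧,
      Triangle.mk (F.map T.mor₁) (F.map T.mor₂) c ∈ distTriang D')
    [∀ (κ : Type w), PreservesColimitsOfShape (Discrete κ) F]
    [∀ (Y : D') (κ : Type w), PreservesLimitsOfShape (Discrete κ) (preadditiveYoneda.obj Y)]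
    (hrep : ∀ (H : Dᵒᵖ ⥤ AddCommGrpCat.{v}) [H.IsHomological]
      [∀ (κ : Type w), PreservesLimitsOfShape (Discrete κ) H]
      [∀ X : D, Small.{w} (H.obj (op X))],
      (H ⋙ forget AddCommGrpCat.{v}).IsRepresentable) : F.IsLeftAdjoint := by
  apply Functor.isLeftAdjoint_of_rightAdjointObjIsDefined_eq_top
  ext Y
  simp only [Pi.top_apply, Prop.top_eq_true, iff_true]
  rw [Functor.rightAdjointObjIsDefined_iff]
  have hlim : ∀ (κ : Type w), PreservesLimitsOfShape (Discrete κ) F.op := by
    intro κ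
    have : PreservesColimitsOfShape (Discrete κ)ᵒᵖ F :=
      preservesColimitsOfShape_of_equiv (Discrete.opposite κ).symm F
    exact preservesLimitsOfShape_op (Discrete κ) F
  have hlim' : ∀ (κ : Type w), PreservesLimitsOfShape (Discrete κ)
      (F.op ⋙ preadditiveYoneda.obj Y) := fun κ => inferInstance
  have hsmall : ∀ X : D, Small.{w} ((F.op ⋙ preadditiveYoneda.obj Y).obj (op X)) := by
    intro X
    show Small.{w} (F.obj X ⟶ Y)
    infer_instance
  haveI := isHomological_op_comp_yoneda F hF Y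
  exact hrep (F.op ⋙ preadditiveYoneda.obj Y)

end General

section Rpush

open Groth.Agent.Lib.Helper5.BvdB Groth.Agent.Lib.Helper5.MV

variable {X Y : Scheme.{u}} (f : X ⟶ Y) [DCoh.HasRpush f]

/-- `Rf_*` restricted to `D_QCoh(X)` -/
noncomputable abbrev rpushQ : DQ X ⥤ DCoh.D Y := (DCoh.IsQCohD (X := X)).ι ⋙ DCoh.Rpush f

instance additive_rpushQ : (rpushQ f).Additive := by
  haveI := additive_rpush f
  infer_instance

theorem exists_distinguished_rpushQ (T : Triangle (DQ X)) (hT : T ∈ distTriang (DQ X)) :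
    ∃ c : (rpushQ f).obj T.obj₃ ⟶ ((rpushQ f).obj T.obj₁)⟦(1 : ℤ)⟧,
      Triangle.mk ((rpushQ f).map T.mor₁) ((rpushQ f).map T.mor₂) c ∈ distTriang (DCoh.D Y) :=
  exists_distinguished_rpush f ((DCoh.IsQCohD (X := X)).ι.mapTriangle.obj T) hT

theorem preservesCoproduct_rpushQ [QuasiCompact f] [QuasiSeparated f] (κ : Type u)
    (K : κ → DQ X) : PreservesColimit (Discrete.functor K) (rpushQ f) := by
  let ι := (DCoh.IsQCohD (X := X)).ι
  have hc : IsColimit (Cofan.mk (ι.obj (∐ K)) (fun k => ι.map (Sigma.ι K k))) :=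
    isColimitCofanMkObjOfIsColimit ι K (Sigma.ι K) (coproductIsCoproduct K)
  obtain ⟨hc'⟩ := presCoprodRel_rpush f κ (fun k => ι.obj (K k)) _ _ hc
    (fun k => (K k).property)
  apply preservesColimit_of_preserves_colimit_cocone (coproductIsCoproduct K)
  exact (isColimitMapCoconeCofanMkEquiv (rpushQ f) K (Sigma.ι K)).symm hc'

instance preservesCoproducts_rpushQ [QuasiCompact f] [QuasiSeparated f] (κ : Type u) :
    PreservesColimitsOfShape (Discrete κ) (rpushQ f) := by
  haveI : ∀ K : κ → DQ X, PreservesColimit (Discrete.functor K) (rpushQ f) :=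
    fun K => preservesCoproduct_rpushQ f κ K
  exact preservesColimitsOfShape_of_discrete (rpushQ f)

/-- **`Rf_*` restricted to `D_QCoh(X)` is a left adjoint** for a morphism of quasi-compact
quasi-separated schemes -/
theorem isLeftAdjoint_rpushQ [CompactSpace X] [QuasiSeparatedSpace X] [QuasiCompact f]
    [QuasiSeparated f] : (rpushQ f).IsLeftAdjoint :=
  isLeftAdjoint_of_representable'.{u} (rpushQ f) (exists_distinguished_rpushQ f)
    (fun H _ _ _ => representable_DQ X H)

/-- **`Rf_* : D_QCoh(X) ⥤ D_QCoh(Y)` has a right adjoint** -/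
theorem isLeftAdjoint_lift_rpush [CompactSpace X] [QuasiSeparatedSpace X] [QuasiCompact f]
    [QuasiSeparated f]
    (h : ∀ K : DCoh.D X, DCoh.IsQCohD K → DCoh.IsQCohD ((DCoh.Rpush f).obj K)) :
    (ObjectProperty.lift DCoh.IsQCohD (ObjectProperty.ι DCoh.IsQCohD ⋙ DCoh.Rpush f)
      (fun K => h K.obj K.property)).IsLeftAdjoint := by
  haveI := isLeftAdjoint_rpushQ f
  let adj := Adjunction.ofIsLeftAdjoint (rpushQ f)
  let ιY := (DCoh.IsQCohD (X := Y)).ι
  let L := ObjectProperty.lift DCoh.IsQCohD (ObjectProperty.ι DCoh.IsQCohD ⋙ DCoh.Rpush f)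
      (fun K => h K.obj K.property)
  let R := ιY ⋙ (rpushQ f).rightAdjoint
  have adj' : L ⊣ R := adj.restrictFullyFaithful (iC := 𝟭 (DQ X)) (iD := ιY)
    (Functor.FullyFaithful.id _) (DCoh.IsQCohD (X := Y)).fullyFaithfulι
    (Functor.leftUnitor _ ≪≫ (ObjectProperty.liftCompιIso _ _ _).symm)
    (Functor.rightUnitor _).symm
  exact adj'.isLeftAdjoint

end Rpush

end Groth.Agent.Lib.Helper5.BrownU
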