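import Mathlib
import Groth.Prelude.Def_DCoh3
import Groth.Agent.Lib.Helper5.QC.RpushPC
import Groth.Agent.Lib.Helper5.MV.RpushTri

/-!
# The right adjoint of `Rf_*` on `D_QCoh` is bounded below (helper5)
-/
set_option autoImplicit false
set_option linter.unusedSectionVars false
set_option linter.unusedVariables false
universe u
open CategoryTheory CategoryTheory.Limits AlgebraicGeometry Pretriangulated
attribute [local instance] HasDerivedCategory.standard

namespace Groth.Agent.Lib.Helper5.BrownU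

open Groth.Agent.Lib.Helper5.QC DerivedCategory DerivedCategory.HomologySequence
  Groth.Agent.Helper1 Groth.Agent.Lib.Helper5.MV

variable {X Y : Scheme.{u}}

/-- in a distinguished triangle `L ⟶ F ⟶ G` with `L ∈ D^{≤ n}`, `G ∈ D^{> n}` and `F ∈ D_QCoh`,
the object `L` is in `D_QCoh` -/
theorem isQCohD_of_truncation_left (T : Triangle (DCoh.D X)) (hT : T ∈ distTriang _) (n : ℤ)
    [T.obj₁.IsLE n] [T.obj₃.IsGE (n + 1)] (hF : DCoh.IsQCohD T.obj₂) : DCoh.IsQCohD T.obj₁ := by
  intro i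
  by_cases hi : n < i
  · exact QcAbel.isQuasicoherent_of_isZero (DerivedCategory.isZero_of_isLE T.obj₁ n i hi)
  · have h1 : IsZero (DCoh.HD T.obj₃ i) :=
      DerivedCategory.isZero_of_isGE T.obj₃ (n + 1) i (by omega)
    have h2 : IsZero (DCoh.HD T.obj₃ (i - 1)) :=
      DerivedCategory.isZero_of_isGE T.obj₃ (n + 1) (i - 1) (by omega)
    haveI : Mono ((DerivedCategory.homologyFunctor X.Modules i).map T.mor₁) :=
      (exact₁ T hT (i - 1) i (by omega)).mono_g (h2.eq_of_src _ _)
    haveI : Epi ((DerivedCategory.homologyFunctor X.Modules i).map T.mor₁) :=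
      (exact₂ T hT i).epi_f (h1.eq_of_tgt _ _)
    haveI : IsIso ((DerivedCategory.homologyFunctor X.Modules i).map T.mor₁) :=
      isIso_of_mono_of_epi _
    haveI : (DCoh.HD T.obj₂ i).IsQuasicoherent := hF i
    exact QcAbel.isQuasicoherent_of_iso
      (asIso ((DerivedCategory.homologyFunctor X.Modules i).map T.mor₁)).symm

/-- **the right adjoint of `Rf_*` on `D_QCoh` is bounded below** -/
theorem shriek_bounded_below (f : X ⟶ Y) [QuasiCompact f] [QuasiSeparated f] [CompactSpace Y]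
    [DCoh.HasRpush f]
    (h : ∀ K : DCoh.D X, DCoh.IsQCohD K → DCoh.IsQCohD ((DCoh.Rpush f).obj K))
    (a : DCoh.DQCoh Y ⥤ DCoh.DQCoh X)
    (adj : (ObjectProperty.lift DCoh.IsQCohD (ObjectProperty.ι DCoh.IsQCohD ⋙ DCoh.Rpush f)
      (fun K => h K.obj K.property)) ⊣ a) :
    ∃ N : ℕ, ∀ (K : DCoh.DQCoh Y) (c : ℤ), (∀ i : ℤ, i ≤ c → IsZero (DCoh.HD K.obj i)) →
      ∀ i : ℤ, i ≤ c - N → IsZero (DCoh.HD (a.obj K).obj i) := by
  obtain ⟨N, hN⟩ := exists_bound_shift f
  refine ⟨N.toNat, fun K c hK i hi => ?_⟩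
  let A : DCoh.D X := (a.obj K).obj
  have hA : DCoh.IsQCohD A := (a.obj K).property
  let n : ℤ := c - N.toNat
  obtain ⟨L, G, hL, hG, l, g, δ, hT⟩ := TStructure.t.exists_triangle A n (n + 1) rfl
  haveI : L.IsLE n := ⟨hL⟩
  haveI : G.IsGE (n + 1) := ⟨hG⟩
  have hLq : DCoh.IsQCohD L := by
    haveI : (Triangle.mk l g δ).obj₁.IsLE n := ⟨hL⟩
    haveI : (Triangle.mk l g δ).obj₃.IsGE (n + 1) := ⟨hG⟩
    exact isQCohD_of_truncation_left (Triangle.mk l g δ) hT n hA
  let L' : DCoh.DQCoh X := ⟨L, hLq⟩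
  let ιX := (DCoh.IsQCohD (X := X)).ι
  let ιY := (DCoh.IsQCohD (X := Y)).ι
  let F := ObjectProperty.lift DCoh.IsQCohD (ObjectProperty.ι DCoh.IsQCohD ⋙ DCoh.Rpush f)
      (fun K => h K.obj K.property)
  let l' : L' ⟶ a.obj K := (DCoh.IsQCohD (X := X)).fullyFaithfulι.preimage l
  -- maps `Rf_* L ⟶ K` vanish for degree reasons
  have hzero : ∀ φ : (DCoh.Rpush f).obj L ⟶ K.obj, φ = 0 := by
    intro φ
    haveI : ((DCoh.Rpush f).obj L).IsLE (c - 1) := by
      rw [DerivedCategory.isLE_iff]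
      intro m hm
      apply hN L n hLq inferInstance m
      have : N ≤ N.toNat := Int.self_le_toNat N
      omega
    haveI : K.obj.IsGE (c + 1) := by
      rw [DerivedCategory.isGE_iff]
      intro m hm
      exact hK m (by omega)
    exact TStructure.t.zero φ (c - 1) (c + 1) (by omega)
  have hsub : ∀ φ ψ : F.obj L' ⟶ K, φ = ψ := by
    intro φ ψ
    apply ιY.map_injective
    exact (hzero (ιY.map φ)).trans (hzero (ιY.map ψ)).symm
  have hl' : l' = 0 := by
    apply (adj.homEquiv L' K).symm.injective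
    exact hsub _ _
  have hl : l = 0 := by
    have h2 : ιX.map l' = l :=
      (DCoh.IsQCohD (X := X)).fullyFaithfulι.map_preimage (X := L') (Y := a.obj K) l
    rw [← h2, hl', Functor.map_zero]
  have h3 : IsZero (DCoh.HD G i) := DerivedCategory.isZero_of_isGE G (n + 1) i (by omega)
  haveI : Mono ((DerivedCategory.homologyFunctor X.Modules i).map g) := by
    refine (exact₂ _ hT i).mono_g ?_
    show (DerivedCategory.homologyFunctor X.Modules i).map l = 0
    rw [hl, Functor.map_zero]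
  exact IsZero.of_mono_eq_zero ((DerivedCategory.homologyFunctor X.Modules i).map g)
    (h3.eq_of_tgt _ _)

end Groth.Agent.Lib.Helper5.BrownU
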